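import Cfsg.Agent.Lib.MaxTwoGen.Module
import Cfsg.Agent.Lib.Solvable.Coprime
import Cfsg.Agent.Lib.Solvable.NilpotentFrattini
import Cfsg.Agent.Lib.Transfer.PGroup

/-!
A maximal solvable subgroup generated by two conjugates, in the subgroup, of a subgroup of prime
order at least five: coprime nilpotent normal subgroups centralise the invariant `r`-subgroups.
-/

set_option autoImplicit false
set_option linter.style.haveILetI false

namespace Cfsg.Agent.MaxTwoGen

open Subgroup
open scoped commutatorElement Pointwise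

universe u

variable {G : Type u} [Group G]

theorem normalizer_le_normalizer_map_char {X : Subgroup G} (K : Subgroup X) [hK : K.Characteristic] :
    normalizer (X : Set G) ≤ normalizer ((K.map X.subtype : Subgroup G) : Set G) := by
  intro g hg
  have key : ∀ g ∈ normalizer (X : Set G), ∀ u ∈ K.map X.subtype, g * u * g⁻¹ ∈ K.map X.subtype := by
    rintro g hg _ ⟨u, hu, rfl⟩
    have h := hK.fixed (X.normalizerMonoidHom ⟨g, hg⟩)
    have hu' : u ∈ K := hu
    rw [← h, mem_comap] at hu'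
    exact ⟨_, hu', rfl⟩
  rw [mem_normalizer_iff]
  refine fun u => ⟨key g hg u, fun hu => ?_⟩
  have := key g⁻¹ (inv_mem hg) _ hu
  simpa [mul_assoc] using this

theorem normalizer_le_normalizer_centralizer' (Q : Subgroup G) :
    normalizer (Q : Set G) ≤ normalizer (centralizer (Q : Set G) : Set G) :=
  (normal_subgroupOf_iff_le_normalizer (centralizer_le_normalizer _)).1 inferInstance

theorem le_normalizer_commutator {X H K : Subgroup G} (hH : X ≤ normalizer (H : Set G))
    (hK : X ≤ normalizer (K : Set G)) : X ≤ normalizer ((⁅H, K⁆ : Subgroup G) : Set G) := by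
  intro g hg
  rw [SolvBasic.mem_normalizer_iff_conjSmul]
  have h1 := SolvBasic.conjSmul_eq_self_of_mem_normalizer (hH hg)
  have h2 := SolvBasic.conjSmul_eq_self_of_mem_normalizer (hK hg)
  calc MulAut.conj g • ⁅H, K⁆ = ⁅MulAut.conj g • H, MulAut.conj g • K⁆ :=
        map_commutator H K (MulAut.conj g).toMonoidHom
    _ = _ := by rw [h1, h2]

theorem le_normalizer_sup {X H K : Subgroup G} (hH : X ≤ normalizer (H : Set G))
    (hK : X ≤ normalizer (K : Set G)) : X ≤ normalizer ((H ⊔ K : Subgroup G) : Set G) := by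
  intro g hg
  rw [SolvBasic.mem_normalizer_iff_conjSmul, Subgroup.smul_sup,
    SolvBasic.conjSmul_eq_self_of_mem_normalizer (hH hg),
    SolvBasic.conjSmul_eq_self_of_mem_normalizer (hK hg)]

theorem eq_of_sup_frattini [Finite G] {U W : Subgroup G} (hU : U ≤ W)
    (h : U ⊔ (frattini W).map W.subtype = W) : U = W := by
  have h1 : U.subgroupOf W ⊔ frattini W = ⊤ := by
    refine Subgroup.map_injective W.subtype_injective ?_
    rw [Subgroup.map_sup, map_subgroupOf_eq_of_le hU, h, ← MonoidHom.range_eq_map, range_subtype]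
  exact le_antisymm hU (subgroupOf_eq_top.1 (frattini_nongenerating h1))

/-- Endomorphisms of a commutative group of prime exponent as linear maps. -/
def endToModule (r : ℕ) (Q : Type*) [CommGroup Q] [Module (ZMod r) (Additive Q)] :
    Monoid.End Q →* Module.End (ZMod r) (Additive Q) where
  toFun α := (MonoidHom.toAdditive α).toZModLinearMap r
  map_one' := rfl
  map_mul' _ _ := rfl

/-- An action on an elementary abelian image of a normalised subgroup, linearised. -/
theorem module_of_quotient {r : ℕ} [Finite G] (A W M : Subgroup G)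
    (hAW : A ≤ normalizer (W : Set G)) {Q : Type u} [CommGroup Q] (q : ↥W →* Q)
    (hq : Function.Surjective q) (hker : ∀ u : W, q u = 1 ↔ (u : G) ∈ M)
    [hmod : Module (ZMod r) (Additive Q)] (f : ↥A → (Q →* Q))
    (hf : ∀ (α : ↥A) (u : W), f α (q u) =
      q ⟨(α : G) * u * (α : G)⁻¹, CoprimeAct.conj_mem_of_mem_normalizer (hAW α.2) u.2⟩) :
    ∃ (V : Type u) (_ : AddCommGroup V) (_ : Module (ZMod r) V) (_ : Finite V)
      (ρ : ↥A →* Module.End (ZMod r) V) (π : G → V),
      (∀ v, ∃ u ∈ W, π u = v) ∧ (∀ u ∈ W, ∀ w ∈ W, π (u * w) = π u + π w) ∧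
      (∀ u ∈ W, π u = 0 ↔ u ∈ M) ∧
      ∀ (α : ↥A), ∀ u ∈ W, π ((α : G) * u * (α : G)⁻¹) = ρ α (π u) := by
  classical
  haveI : Finite Q := Finite.of_surjective q hq
  let F : ↥A →* Monoid.End Q :=
    { toFun := f
      map_one' := MonoidHom.ext fun c => by
        obtain ⟨u, rfl⟩ := hq c
        exact (hf 1 u).trans (congrArg q (Subtype.ext (by simp)))
      map_mul' := fun α β => MonoidHom.ext fun c => by
        obtain ⟨u, rfl⟩ := hq c
        exact (hf (α * β) u).trans (((congrArg (f α) (hf β u)).trans (hf α _)).trans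
          (congrArg q (Subtype.ext (by simp [mul_assoc])))).symm }
  let ρ : ↥A →* Module.End (ZMod r) (Additive Q) := (endToModule r Q).comp F
  refine ⟨Additive Q, inferInstance, inferInstance, inferInstance, ρ,
    fun u => if hu : u ∈ W then Additive.ofMul (q ⟨u, hu⟩) else 0, ?_, ?_, ?_, ?_⟩
  · intro v
    obtain ⟨u, hu⟩ := hq (Additive.toMul v)
    exact ⟨u, u.2, by simp only [dif_pos u.2, Subtype.coe_eta]; rw [hu]; rfl⟩
  · intro u hu w hw
    simp only [dif_pos hu, dif_pos hw, dif_pos (mul_mem hu hw)]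
    rw [← ofMul_mul, ← map_mul]
    rfl
  · intro u hu
    simp only [dif_pos hu]
    rw [ofMul_eq_zero, hker]

  · intro α u hu
    simp only [dif_pos hu, dif_pos (CoprimeAct.conj_mem_of_mem_normalizer (hAW α.2) hu)]
    exact (congrArg Additive.ofMul (hf α ⟨u, hu⟩)).symm

/-- An `r`-group acted on gives a module over the prime field on its quotient by a normal
invariant subgroup with elementary abelian quotient. -/
theorem exists_module {r : ℕ} [Finite G] (A W M : Subgroup G)
    (hAW : A ≤ normalizer (W : Set G)) (hAM : A ≤ normalizer (M : Set G))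
    (hcomm : ∀ u ∈ W, ∀ v ∈ W, ⁅u, v⁆ ∈ M) (hpow : ∀ u ∈ W, u ^ r ∈ M) :
    ∃ (V : Type u) (_ : AddCommGroup V) (_ : Module (ZMod r) V) (_ : Finite V)
      (ρ : ↥A →* Module.End (ZMod r) V) (π : G → V),
      (∀ v, ∃ u ∈ W, π u = v) ∧ (∀ u ∈ W, ∀ w ∈ W, π (u * w) = π u + π w) ∧
      (∀ u ∈ W, π u = 0 ↔ u ∈ M) ∧
      ∀ (α : ↥A), ∀ u ∈ W, π ((α : G) * u * (α : G)⁻¹) = ρ α (π u) := by
  classical
  set M₀ := M.subgroupOf W with hM₀
  haveI hn : M₀.Normal := ⟨fun m hm w => by
    rw [hM₀, mem_subgroupOf] at hm ⊢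
    have h : ((w * m * w⁻¹ : W) : G) = ⁅(w : G), (m : G)⁆ * m := by
      simp [commutatorElement_def]
    rw [h]
    exact mul_mem (hcomm _ w.2 _ m.2) hm⟩
  letI hcg : CommGroup (W ⧸ M₀) :=
    { (inferInstance : Group (W ⧸ M₀)) with
      mul_comm := by
        intro c d
        obtain ⟨u, rfl⟩ := QuotientGroup.mk_surjective c
        obtain ⟨v, rfl⟩ := QuotientGroup.mk_surjective d
        rw [← QuotientGroup.mk_mul, ← QuotientGroup.mk_mul, QuotientGroup.eq]
        rw [hM₀, mem_subgroupOf]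
        have h : (((u * v)⁻¹ * (v * u) : W) : G) = ⁅(v : G)⁻¹, (u : G)⁻¹⁆ := by
          simp [commutatorElement_def, mul_assoc]
        rw [h]
        exact hcomm _ (inv_mem v.2) _ (inv_mem u.2) }
  let act : ↥A →* MulAut W := W.normalizerMonoidHom.comp (Subgroup.inclusion hAW)
  have hact : ∀ α, M₀ ≤ M₀.comap (act α).toMonoidHom := fun α u hu =>
    CoprimeAct.conj_mem_of_mem_normalizer (hAM α.2) hu
  refine module_of_quotient (r := r) A W M hAW (Q := W ⧸ M₀) (QuotientGroup.mk' M₀)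
    (QuotientGroup.mk'_surjective M₀) (fun u => ?_)
    (hmod := AddCommGroup.zmodModule (n := r) fun c => Additive.toMul.injective (?_ : _))
    (fun α => QuotientGroup.map M₀ M₀ (act α).toMonoidHom (hact α)) (fun α u => rfl)
  · rw [QuotientGroup.mk'_apply, QuotientGroup.eq_one_iff, hM₀, mem_subgroupOf]
  · obtain ⟨u, hu⟩ := QuotientGroup.mk_surjective (Additive.toMul c)
    rw [toMul_nsmul, ← hu, toMul_zero, ← QuotientGroup.mk_pow, QuotientGroup.eq_one_iff, hM₀,
      mem_subgroupOf, coe_pow]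
    exact hpow _ u.2

variable [Finite G]

theorem centralizes {p : ℕ} [Fact p.Prime] (hp5 : 5 ≤ p) {A : Subgroup G}
    (hAsol : Group.IsSolvable ↥A) {x a : G} (hx : orderOf x = p) (ha : a ∈ A)
    (hAgen : A = zpowers x ⊔ zpowers (a * x * a⁻¹))
    (hmax : ∀ B : Subgroup G, A ≤ B → Group.IsSolvable ↥B →
      (∃ b ∈ B, B = zpowers x ⊔ zpowers (b * x * b⁻¹)) → B = A)
    {r : ℕ} [hr : Fact r.Prime] {E : Subgroup G} (hEA : E ≤ A)
    (hAE : A ≤ normalizer (E : Set G)) (hcopE : ¬ r ∣ Nat.card E)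
    (hsmall : ∀ U ≤ A, IsPGroup r U → A ≤ normalizer (U : Set G) →
      E ≤ centralizer (U : Set G))
    {W : Subgroup G} (hW : IsPGroup r W) (hAW : A ≤ normalizer (W : Set G)) :
    E ≤ centralizer (W : Set G) := by
  classical
  induction hn : Nat.card W using Nat.strong_induction_on generalizing W with
  | _ n ih =>
  subst hn
  by_contra hne
  have hlow : ∀ U : Subgroup G, U ≤ W → A ≤ normalizer (U : Set G) → U ≠ W →
      E ≤ centralizer (U : Set G) := fun U hUW hAU hne' =>
    ih (Nat.card U) (lt_of_le_of_ne (card_le_of_le hUW) fun h =>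
      hne' (eq_of_le_of_card_ge hUW h.ge)) (hW.to_le hUW) hAU rfl
  have hEW : E ≤ normalizer (W : Set G) := hEA.trans hAW
  have hcop : (Nat.card E).Coprime (Nat.card W) := by
    obtain ⟨m, hm⟩ := IsPGroup.iff_card.1 hW
    rw [hm]
    exact ((hr.out.coprime_iff_not_dvd.2 hcopE).pow_left m).symm
  haveI hWnil : Group.IsNilpotent ↥W := hW.isNilpotent
  have hsol : Group.IsSolvable E ∨ Group.IsSolvable W := Or.inr inferInstance
  -- `W = [W, E]`
  have hWE : ⁅W, E⁆ = W := by
    by_contra h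
    have hA1 : A ≤ normalizer ((⁅W, E⁆ : Subgroup G) : Set G) :=
      le_normalizer_commutator hAW hAE
    have h1 := hlow _ (CoprimeAct.commutator_le_left hEW) hA1 h
    have h2 : ⁅⁅W, E⁆, E⁆ = ⊥ :=
      commutator_eq_bot_iff_le_centralizer.2 (le_centralizer_iff.1 h1)
    rw [CoprimeAct.commutator_commutator hEW hcop hsol] at h2
    exact hne (le_centralizer_iff.1 (commutator_eq_bot_iff_le_centralizer.1 h2))
  -- the maximal proper invariant subgroup
  set F := (frattini W).map W.subtype with hF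
  set M := W ⊓ centralizer (E : Set G) with hM
  have hFW : F ≤ W := map_subtype_le _
  have hAF : A ≤ normalizer (F : Set G) :=
    hAW.trans (normalizer_le_normalizer_map_char (frattini W))
  have hFM : F ≤ M := by
    refine le_inf hFW (le_centralizer_iff.1 (hlow F hFW hAF fun h => ?_))
    refine hne ?_
    have hbot : (⊥ : Subgroup G) = W := eq_of_sup_frattini bot_le (by rw [bot_sup_eq, ← hF, h])
    rw [← hbot]
    intro e _
    rw [mem_centralizer_iff]
    intro y hy
    rw [SetLike.mem_coe, mem_bot] at hy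
    subst hy
    simp
  have hMW : M ≤ W := inf_le_left
  have hAM : A ≤ normalizer (M : Set G) :=
    (le_inf hAW (hAE.trans (normalizer_le_normalizer_centralizer' E))).trans
      inf_normalizer_le_normalizer_inf
  have hmaxM : ∀ U ≤ W, A ≤ normalizer (U : Set G) → U ≠ W → U ≤ M := fun U hUW hAU hU =>
    le_inf hUW (le_centralizer_iff.1 (hlow U hUW hAU hU))
  have hMne : M ≠ W := fun h => hne (le_centralizer_iff.1 (h ▸ inf_le_right))
  have hcomm : ∀ u ∈ W, ∀ v ∈ W, ⁅u, v⁆ ∈ M := fun u hu v hv => hFM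
    ⟨⁅(⟨u, hu⟩ : W), ⟨v, hv⟩⁆, SolvStruct.commutator_le_frattini W
      (commutator_mem_commutator (mem_top _) (mem_top _)), rfl⟩
  have hpow : ∀ u ∈ W, u ^ r ∈ M := fun u hu => hFM
    ⟨(⟨u, hu⟩ : W) ^ r, PGroupBasics.pow_mem_frattini hW ⟨u, hu⟩, rfl⟩
  obtain ⟨V, _, _, _, ρ, π, hπs, hπa, hπ0, hπc⟩ :=
    exists_module (r := r) A W M hAW hAM hcomm hpow
  haveI : Nontrivial V := by
    obtain ⟨u, hu, huM⟩ := SetLike.exists_of_lt (lt_of_le_of_ne hMW hMne)
    exact ⟨π u, 0, fun h => huM ((hπ0 u hu).1 h)⟩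
  have hπ1 : π 1 = 0 := (hπ0 1 (one_mem _)).2 (one_mem _)
  have hπinv : ∀ u ∈ W, π u⁻¹ = - π u := fun u hu =>
    eq_neg_of_add_eq_zero_left (by rw [← hπa _ (inv_mem hu) _ hu, inv_mul_cancel, hπ1])
  -- irreducibility
  have hirr : ∀ X : Submodule (ZMod r) V, (∀ g, ∀ v ∈ X, ρ g v ∈ X) → X = ⊥ ∨ X = ⊤ := by
    intro X hX
    let U : Subgroup G :=
      { carrier := {u | u ∈ W ∧ π u ∈ X}
        one_mem' := ⟨one_mem _, by rw [hπ1]; exact X.zero_mem⟩
        mul_mem' := fun {u v} hu hv =>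
          ⟨mul_mem hu.1 hv.1, by rw [hπa _ hu.1 _ hv.1]; exact X.add_mem hu.2 hv.2⟩
        inv_mem' := fun {u} hu =>
          ⟨inv_mem hu.1, by rw [hπinv _ hu.1]; exact X.neg_mem hu.2⟩ }
    have hUW : U ≤ W := fun u hu => hu.1
    have hconj : ∀ α ∈ A, ∀ u ∈ U, α * u * α⁻¹ ∈ U := fun α hα u hu =>
      ⟨CoprimeAct.conj_mem_of_mem_normalizer (hAW hα) hu.1, by
        rw [hπc ⟨α, hα⟩ u hu.1]; exact hX _ _ hu.2⟩
    have hAU : A ≤ normalizer (U : Set G) := fun α hα => by
      rw [mem_normalizer_iff]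
      refine fun u => ⟨hconj α hα u, fun h => ?_⟩
      have := hconj α⁻¹ (inv_mem hα) _ h
      simpa [mul_assoc] using this
    by_cases h : U = W
    · refine Or.inr (top_le_iff.1 fun v _ => ?_)
      obtain ⟨u, hu, rfl⟩ := hπs v
      exact (h.ge hu).2
    · refine Or.inl ((Submodule.eq_bot_iff X).2 fun v hv => ?_)
      obtain ⟨u, hu, rfl⟩ := hπs v
      exact (hπ0 u hu).2 (hmaxM U hUW hAU h ⟨hu, hv⟩)
  -- no fixed vectors of `E`
  haveI hEn : (E.subgroupOf A).Normal := normal_subgroupOf_of_le_normalizer hAE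
  let X : Submodule (ZMod r) V := ⨅ e : E.subgroupOf A, LinearMap.ker (ρ e - 1)
  have hXmem : ∀ v, v ∈ X ↔ ∀ e ∈ E.subgroupOf A, ρ e v = v := fun v => by
    simp [X, Submodule.mem_iInf, sub_eq_zero]
  have hfix : ∀ v : V, (∀ e ∈ E.subgroupOf A, ρ e v = v) → v = 0 := by
    have hinv : ∀ g, ∀ v ∈ X, ρ g v ∈ X := fun g v hv => (hXmem _).2 fun e he => by
      have he' : g⁻¹ * e * g ∈ E.subgroupOf A := by simpa using hEn.conj_mem e he g⁻¹
      have h := (hXmem v).1 hv _ he'
      calc ρ e (ρ g v) = ρ (e * g) v := by rw [map_mul]; rfl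
        _ = ρ (g * (g⁻¹ * e * g)) v := by congr 2; group
        _ = ρ g v := by rw [map_mul, Module.End.mul_apply, h]
    rcases hirr X hinv with h | h
    · intro v hv
      have := (hXmem v).2 hv
      rwa [h, Submodule.mem_bot] at this
    · exfalso
      refine hMne (le_antisymm hMW (hWE.ge.trans ?_))
      rw [commutator_le]
      intro u hu e he
      have hew : e * u⁻¹ * e⁻¹ ∈ W :=
        CoprimeAct.conj_mem_of_mem_normalizer (hEW he) (inv_mem hu)
      have hmem : ⁅u, e⁆ = u * (e * u⁻¹ * e⁻¹) := by simp [commutatorElement_def, mul_assoc]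
      rw [hmem]
      refine (hπ0 _ (mul_mem hu hew)).1 ?_
      rw [hπa _ hu _ hew, hπc ⟨e, hEA he⟩ _ (inv_mem hu),
        (hXmem _).1 (h ▸ Submodule.mem_top) ⟨e, hEA he⟩ he, ← hπa _ hu _ (inv_mem hu),
        mul_inv_cancel, hπ1]
  -- the two generators
  have hxA : x ∈ A := by rw [hAgen]; exact mem_sup_left (mem_zpowers x)
  set x' : A := ⟨x, hxA⟩ with hx'
  set a' : A := ⟨a, ha⟩ with ha'
  set y := a * x * a⁻¹ with hy
  have hgen : closure ({x', a' * x' * a'⁻¹} : Set A) = ⊤ := by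
    refine Subgroup.map_injective A.subtype_injective ?_
    rw [MonoidHom.map_closure, ← MonoidHom.range_eq_map, range_subtype, Set.image_pair]
    refine Eq.trans ?_ hAgen.symm
    rw [zpowers_eq_closure, zpowers_eq_closure, ← Subgroup.closure_union, Set.singleton_union]
    rfl
  have hmove : ∃ g : A, ρ g ≠ 1 := by
    by_contra h
    push Not at h
    obtain ⟨v, hv⟩ := exists_ne (0 : V)
    exact hv (hfix v fun e _ => by rw [h e]; rfl)
  obtain ⟨v₀, hv₀⟩ := exists_not_mem ρ hirr (Fact.out : p.Prime) hp5 (x := x') (a := a')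
    (Subtype.ext (by simpa [hx'] using hx ▸ pow_orderOf_eq_one x)) hgen hmove
  obtain ⟨w, hw, rfl⟩ := hπs v₀
  -- the larger two generator subgroup
  set B := zpowers x ⊔ zpowers (w * a * x * (w * a)⁻¹) with hB
  have hAWn : A ≤ normalizer (W : Set G) := hAW
  have hyA : y ∈ A := mul_mem (mul_mem ha hxA) (inv_mem ha)
  have hyw : w * a * x * (w * a)⁻¹ = w * y * w⁻¹ := by rw [hy]; group
  have hBle : B ≤ W ⊔ A := by
    refine sup_le (zpowers_le.2 (mem_sup_right hxA)) (zpowers_le.2 ?_)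
    rw [hyw]
    exact mul_mem (mul_mem (mem_sup_left hw) (mem_sup_right hyA)) (inv_mem (mem_sup_left hw))
  have hBA : W ⊔ A ≤ W ⊔ B := by
    refine sup_le le_sup_left (hAgen.le.trans (sup_le (zpowers_le.2 ?_) (zpowers_le.2 ?_)))
    · exact mem_sup_right (mem_sup_left (mem_zpowers x))
    · have h : w⁻¹ * (w * a * x * (w * a)⁻¹) * w ∈ W ⊔ B :=
        mul_mem (mul_mem (mem_sup_left (inv_mem hw)) (mem_sup_right (mem_sup_right (mem_zpowers _))))
          (mem_sup_left hw)
      rw [hyw] at h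
      simpa [hy, mul_assoc] using h
  have hBW : B ≤ normalizer (W : Set G) := hBle.trans (sup_le le_normalizer hAW)
  have hproper : B ≠ W ⊔ A := by
    intro h
    have hsolAW : Group.IsSolvable ↥(W ⊔ A : Subgroup G) := by
      haveI : Group.IsSolvable ↥A := hAsol
      haveI : (W.subgroupOf (W ⊔ A)).Normal :=
        normal_subgroupOf_of_le_normalizer (sup_le le_normalizer hAW)
      haveI : Group.IsSolvable ↥(W.subgroupOf (W ⊔ A)) :=
        Group.isSolvable_of_isSolvable_injective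
          (f := (subgroupOfEquivOfLe (le_sup_left : W ≤ W ⊔ A)).toMonoidHom)
          (subgroupOfEquivOfLe (le_sup_left : W ≤ W ⊔ A)).injective
      haveI : Group.IsSolvable (↥(W ⊔ A) ⧸ W.subgroupOf (W ⊔ A)) := by
        refine Group.isSolvable_of_surjective (f := (QuotientGroup.mk' (W.subgroupOf (W ⊔ A))).comp
          (Subgroup.inclusion (le_sup_right : A ≤ W ⊔ A))) fun c => ?_
        obtain ⟨⟨g, hg⟩, rfl⟩ := QuotientGroup.mk_surjective c
        obtain ⟨u, hu, α, hα, rfl⟩ := (SolvBasic.mem_sup_iff_of_le_normalizer hAW).1 hg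
        refine ⟨⟨α, hα⟩, ?_⟩
        rw [MonoidHom.comp_apply, QuotientGroup.mk'_apply, QuotientGroup.eq, mem_subgroupOf]
        have := CoprimeAct.conj_mem_of_mem_normalizer (hAW (inv_mem hα)) hu
        simpa [mul_assoc] using this
      exact Group.isSolvable_of_ker_le_range (W.subgroupOf (W ⊔ A)).subtype
        (QuotientGroup.mk' (W.subgroupOf (W ⊔ A))) (by rw [QuotientGroup.ker_mk', range_subtype])
    have hBeq := hmax B (h ▸ le_sup_right) (h ▸ hsolAW)
      ⟨w * a, h ▸ mul_mem (mem_sup_left hw) (mem_sup_right ha), rfl⟩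
    have hWA : W ≤ A := hBeq ▸ h ▸ le_sup_left
    exact hne (hsmall W hWA hW hAW)
  -- `B` meets `W` in the maximal invariant subgroup
  have hBWM : B ⊓ W ≤ M := by
    have hBn : B ≤ normalizer ((B ⊓ W : Subgroup G) : Set G) :=
      (le_inf le_normalizer hBW).trans inf_normalizer_le_normalizer_inf
    have hU : A ≤ normalizer (((B ⊓ W) ⊔ F : Subgroup G) : Set G) := by
      refine le_trans ?_ (le_refl (normalizer (((B ⊓ W) ⊔ F : Subgroup G) : Set G)))
      refine (le_sup_right : A ≤ W ⊔ A).trans (hBA.trans (sup_le ?_ ?_))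
      · intro u hu
        rw [mem_normalizer_iff]
        have key : ∀ u ∈ W, ∀ z ∈ (B ⊓ W) ⊔ F, u * z * u⁻¹ ∈ (B ⊓ W) ⊔ F := by
          intro u hu z hz
          have hzW : z ∈ W := (sup_le inf_le_right hFW : (B ⊓ W) ⊔ F ≤ W) hz
          have h : u * z * u⁻¹ = ⁅u, z⁆ * z := by simp [commutatorElement_def]
          rw [h]
          exact mul_mem (mem_sup_right (⟨⁅(⟨u, hu⟩ : W), ⟨z, hzW⟩⁆,
            SolvStruct.commutator_le_frattini W
              (commutator_mem_commutator (mem_top _) (mem_top _)), rfl⟩ : ⁅u, z⁆ ∈ F)) hz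
        refine fun z => ⟨key u hu z, fun hz => ?_⟩
        simpa [mul_assoc] using key u⁻¹ (inv_mem hu) _ hz
      · exact le_normalizer_sup hBn (hBW.trans (normalizer_le_normalizer_map_char (frattini W)))
    by_cases h : (B ⊓ W) ⊔ F = W
    · exfalso
      have hWB : W ≤ B := by
        have := eq_of_sup_frattini (inf_le_right : B ⊓ W ≤ W) h
        exact this ▸ inf_le_left
      exact hproper (le_antisymm hBle (hBA.trans (sup_le hWB le_rfl)))
    · exact le_sup_left.trans (hmaxM _ (sup_le inf_le_right hFW) hU h)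
  -- the cocycle
  have hex : ∀ α : A, ∃ u ∈ W, u * (α : G) ∈ B := fun α => by
    obtain ⟨u, hu, β, hβ, hαeq⟩ := (SolvBasic.mem_sup_iff_of_le_normalizer hBW).1
      (hBA (mem_sup_right α.2))
    exact ⟨u⁻¹, inv_mem hu, by rw [hαeq, inv_mul_cancel_left]; exact hβ⟩
  choose c hcW hcB using hex
  set δ : A → V := fun α => π (c α) with hδ
  have huniq : ∀ (α : A), ∀ u ∈ W, u * (α : G) ∈ B → π u = δ α := by
    intro α u hu huB
    have h1 : c α * u⁻¹ ∈ B ⊓ W := by
      refine Subgroup.mem_inf.2 ⟨?_, mul_mem (hcW α) (inv_mem hu)⟩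
      have := mul_mem (hcB α) (inv_mem huB)
      simpa [mul_assoc] using this
    have h2 := (hπ0 _ h1.2).2 (hBWM h1)
    rw [hπa _ (hcW α) _ (inv_mem hu), hπinv _ hu, ← sub_eq_add_neg, sub_eq_zero] at h2
    exact h2.symm
  have hcoc : ∀ α β, δ (α * β) = δ α + ρ α (δ β) := by
    intro α β
    have hcw : (α : G) * c β * (α : G)⁻¹ ∈ W :=
      CoprimeAct.conj_mem_of_mem_normalizer (hAW α.2) (hcW β)
    rw [← huniq (α * β) (c α * ((α : G) * c β * (α : G)⁻¹)) (mul_mem (hcW α) hcw) ?_,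
      hπa _ (hcW α) _ hcw, hπc α _ (hcW β)]
    have := mul_mem (hcB α) (hcB β)
    simpa [mul_assoc] using this
  have hEr : ((Nat.card (E.subgroupOf A) : ℕ) : ZMod r) ≠ 0 := by
    rw [Ne, ZMod.natCast_eq_zero_iff, Nat.card_congr (subgroupOfEquivOfLe hEA).toEquiv]
    exact hcopE
  obtain ⟨u₀, hu₀⟩ := cocycle_inner ρ δ hcoc (E.subgroupOf A) hEr hfix
  have hfx : ρ x' u₀ = u₀ := by
    have h1 : δ x' = 0 := by
      rw [← huniq x' 1 (one_mem _) (by rw [one_mul]; exact mem_sup_left (mem_zpowers x)), hπ1]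
    rw [hu₀] at h1
    exact (sub_eq_zero.1 h1).symm
  refine hv₀ u₀ hfx ?_
  set y' : A := a' * x' * a'⁻¹ with hy'
  have hyy : (y' : G) = y := rfl
  have hyW : y * w⁻¹ * y⁻¹ ∈ W := CoprimeAct.conj_mem_of_mem_normalizer (hAW hyA) (inv_mem hw)
  have h2 : δ y' = π w - ρ y' (π w) := by
    rw [← huniq y' (w * (y * w⁻¹ * y⁻¹)) (mul_mem hw hyW) ?_, hπa _ hw _ hyW,
      show π (y * w⁻¹ * y⁻¹) = ρ y' (π w⁻¹) from hπc y' _ (inv_mem hw), hπinv _ hw, map_neg,
      sub_eq_add_neg]
    have : w * (y * w⁻¹ * y⁻¹) * (y' : G) = w * y * w⁻¹ := by rw [hyy]; group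
    rw [this, ← hyw]
    exact mem_sup_right (mem_zpowers _)
  rw [hu₀ y'] at h2
  rw [map_sub]
  have h3 := sub_eq_zero.2 h2
  have : ρ y' (π w) - ρ y' u₀ - (π w - u₀) = u₀ - ρ y' u₀ - (π w - ρ y' (π w)) := by abel
  exact sub_eq_zero.1 (this.trans h3)

end Cfsg.Agent.MaxTwoGen
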