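import Cfsg.Agent.Lib.FixedHalf.Main
import Mathlib.GroupTheory.QuotientGroup.Finite
import Mathlib.Algebra.Module.ZMod
import Mathlib.LinearAlgebra.Dimension.RankNullity

/-!
Linear algebra for two conjugate elements of prime order at least five generating a solvable
group: their fixed spaces do not span, and cocycles vanish when a normal subgroup of invertible
order has no fixed points.
-/

set_option autoImplicit false
set_option linter.style.haveILetI false

namespace Cfsg.Agent.MaxTwoGen

open Module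

variable {A : Type*} [Group A] [Finite A] {k V : Type*} [Field k] [AddCommGroup V] [Module k V]

/-- A cocycle is a coboundary when a normal subgroup of invertible order fixes no vector. -/
theorem cocycle_inner (ρ : A →* Module.End k V) (δ : A → V)
    (hδ : ∀ α β, δ (α * β) = δ α + ρ α (δ β)) (E : Subgroup A) [E.Normal]
    (hE : (Nat.card E : k) ≠ 0) (hfix : ∀ v : V, (∀ e ∈ E, ρ e v = v) → v = 0) :
    ∃ u : V, ∀ α, δ α = u - ρ α u := by
  classical
  haveI := Fintype.ofFinite E
  set S : V := ∑ f : E, δ f with hS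
  refine ⟨(Nat.card E : k)⁻¹ • S, ?_⟩
  set u : V := (Nat.card E : k)⁻¹ • S with hu
  have hE' : ∀ e ∈ E, δ e = u - ρ e u := by
    intro e he
    have h1 : S = (Nat.card E : k) • δ e + ρ e S := by
      conv_lhs => rw [hS, ← Equiv.sum_comp (Equiv.mulLeft (⟨e, he⟩ : E))]
      simp only [Equiv.coe_mulLeft, Subgroup.coe_mul, hδ, Finset.sum_add_distrib,
        Finset.sum_const, Finset.card_univ, hS, map_sum]
      rw [Nat.card_eq_fintype_card, Nat.cast_smul_eq_nsmul]
    have h2 : S - ρ e S = (Nat.card E : k) • δ e := by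
      conv_lhs => arg 1; rw [h1]
      abel
    rw [hu, map_smul, ← smul_sub, h2, inv_smul_smul₀ hE]
  intro α
  set d : A → V := fun β => δ β - (u - ρ β u) with hd
  have hdmul : ∀ α β, d (α * β) = d α + ρ α (d β) := by
    intro α β
    simp only [hd, hδ, map_mul, Module.End.mul_apply, map_sub]
    abel
  have hdE : ∀ e ∈ E, d e = 0 := fun e he => by simp [hd, hE' e he]
  suffices h : d α = 0 by
    simpa [hd, sub_eq_zero] using h
  refine hfix _ fun e he => ?_
  have he' : α⁻¹ * e * α ∈ E := by simpa using (‹E.Normal›).conj_mem e he α⁻¹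
  have h1 : d (e * α) = d α := by
    have h2 : e * α = α * (α⁻¹ * e * α) := by group
    rw [h2, hdmul, hdE _ he', map_zero, add_zero]
  rwa [hdmul, hdE _ he, zero_add] at h1

variable [Group.IsSolvable A] [FiniteDimensional k V]

/-- The fixed spaces of two conjugate generators of prime order at least five do not span. -/
theorem exists_not_mem (ρ : A →* Module.End k V) [Nontrivial V]
    (hirr : ∀ W : Submodule k V, (∀ g, ∀ v ∈ W, ρ g v ∈ W) → W = ⊥ ∨ W = ⊤)
    {p : ℕ} (hp : p.Prime) (hp5 : 5 ≤ p) {x a : A} (hx : x ^ p = 1)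
    (hgen : Subgroup.closure ({x, a * x * a⁻¹} : Set A) = ⊤) (hmove : ∃ g : A, ρ g ≠ 1) :
    ∃ v : V, ∀ u : V, ρ x u = u → ρ (a * x * a⁻¹) (v - u) ≠ v - u := by
  classical
  obtain ⟨ρb, hρπ', hinj⟩ : ∃ ρb : A ⧸ ρ.ker →* Module.End k V,
      (∀ g : A, ρb (QuotientGroup.mk' ρ.ker g) = ρ g) ∧ Function.Injective ρb :=
    ⟨QuotientGroup.lift ρ.ker ρ le_rfl, fun g => rfl, fun c d hcd => by
      obtain ⟨u, rfl⟩ := QuotientGroup.mk_surjective c
      obtain ⟨v, rfl⟩ := QuotientGroup.mk_surjective d
      rw [QuotientGroup.lift_mk, QuotientGroup.lift_mk] at hcd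
      refine QuotientGroup.eq.2 ?_
      rw [MonoidHom.mem_ker, map_mul, ← hcd, ← map_mul, inv_mul_cancel, map_one]⟩
  generalize hπ : QuotientGroup.mk' ρ.ker = π at hρπ'
  have hρπ := hρπ'
  have hπs : Function.Surjective π := hπ ▸ QuotientGroup.mk'_surjective _
  haveI : Group.IsSolvable (A ⧸ ρ.ker) :=
    Group.isSolvable_of_surjective hπs
  have hirr' : ∀ W : Submodule k V, (∀ g, ∀ v ∈ W, ρb g v ∈ W) → W = ⊥ ∨ W = ⊤ :=
    fun W hW => hirr W fun g v hv => by rw [← hρπ]; exact hW _ v hv
  set y := a * x * a⁻¹ with hy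
  have hyp : y ^ p = 1 := by rw [hy, conj_pow, hx, mul_one, mul_inv_cancel]
  have hncl : ∀ z ∈ ({x, y} : Set A), Subgroup.normalClosure ({π z} : Set (A ⧸ ρ.ker)) = ⊤ := by
    intro z hz
    have hx' : x ∈ Subgroup.normalClosure ({z} : Set A) := by
      rcases hz with rfl | hz
      · exact Subgroup.subset_normalClosure rfl
      · rw [Set.mem_singleton_iff] at hz
        subst hz
        have := Subgroup.normalClosure_normal.conj_mem y
          (Subgroup.subset_normalClosure (Set.mem_singleton y)) a⁻¹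
        simpa [hy, mul_assoc] using this
    have htop : Subgroup.normalClosure ({z} : Set A) = ⊤ := by
      refine top_le_iff.1 (hgen ▸ (Subgroup.closure_le _).2 ?_)
      rintro w (rfl | rfl)
      · exact hx'
      · exact Subgroup.normalClosure_normal.conj_mem x hx' a
    have h := Subgroup.map_normalClosure ({z} : Set A) π hπs
    rw [htop, Subgroup.map_top_of_surjective _ hπs,
      Set.image_singleton] at h
    exact h.symm
  have hne : ∀ z ∈ ({x, y} : Set A), π z ≠ 1 := by
    intro z hz h1
    obtain ⟨g, hg⟩ := hmove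
    refine hg ?_
    have := hncl z hz
    replace this := this.symm.le.trans (Subgroup.normalClosure_le_normal (N := (⊥ : Subgroup (A ⧸ ρ.ker))) (by simp [h1]))
    have hg1 : π g ∈ (⊥ : Subgroup (A ⧸ ρ.ker)) := this (Subgroup.mem_top _)
    rw [← hρπ, Subgroup.mem_bot.1 hg1, map_one]
  have hbx := FixedHalf.bound ρb hinj hirr' hp hp5 (x := π x) (by rw [← map_pow, hx, map_one])
    (hne x (by simp)) (hncl x (by simp))
  have hby := FixedHalf.bound ρb hinj hirr' hp hp5 (x := π y) (by rw [← map_pow, hyp, map_one])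
    (hne y (by simp)) (hncl y (by simp))
  rw [hρπ] at hbx hby
  have hsum : LinearMap.ker (ρ x - 1) ⊔ LinearMap.ker (ρ y - 1) ≠ ⊤ := by
    intro h
    have := Submodule.finrank_add_le_finrank_add_finrank (LinearMap.ker (ρ x - 1))
      (LinearMap.ker (ρ y - 1))
    rw [h, finrank_top] at this
    omega
  obtain ⟨v, -, hv⟩ := SetLike.exists_of_lt (lt_top_iff_ne_top.2 hsum)
  refine ⟨v, fun u hu hvu => hv ?_⟩
  rw [Submodule.mem_sup]
  exact ⟨u, by simp [hu], v - u, by
    rw [LinearMap.mem_ker, LinearMap.sub_apply, Module.End.one_apply, hvu, sub_self],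
    add_sub_cancel _ _⟩

end Cfsg.Agent.MaxTwoGen
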